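import Cfsg.Agent.Omega.NOThreeL.RRed.LevVX
import Cfsg.Agent.Omega.NOThreeL.RLev.TopEnd

/-!
# Box R of NO-3L, one class, letters (helper978): helper319's literal `VX S`, and `Top S` from `SeedQ S`
-/

set_option autoImplicit false

namespace Cfsg.Agent.Omega.NOThreeL.RRed.LevVX

open Subgroup Cfsg Cfsg.Agent.ZN.ChoiceBase Cfsg.Agent.Omega.MinPar Cfsg.Agent.Omega.Frame
open Cfsg.Agent.ZN (jj zc zl o2)
open Cfsg.Agent.Omega.NOThreeL.Merge (MZ)
open Cfsg.Agent.Omega.NOThreeL.RTree (RB)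
open Cfsg.Agent.Omega.NOThreeL.RTreeF (RBF)
open Cfsg.Agent.Omega.NOThreeL.RRed (Wd)
open Cfsg.Agent.Omega.NOThreeL.RRed.FourTree (Bks)
open Cfsg.Agent.Omega.NOThreeL.RLev (TopLev VX SeedQ top_of)
open Cfsg.Agent.Omega.NO3b.EndX (AbsP)
open Cfsg.Agent.Omega.ML.Final (MLK)

universe u

variable {G : Type u} [Group G] [Finite G] {S : Sylow 2 G}
  {I : Type u} [Fintype I] [DecidableEq I] {N E : I → Subgroup G} {Om : I → Type u}
  [∀ i, Fintype (Om i)] [∀ i, DecidableEq (Om i)] {phi : ∀ i, Finset (Om i) → G}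

/-- **`VX S`** for letters. -/
theorem vx_two (B : RB S) (hB : Bks S N E ⊥ Om phi)
    (irr : ∀ U : Subgroup G, U ≤ Wd (S : Subgroup G) → MZ (S : Subgroup G) ≤ normalizer (U : Set G) → U ≠ ⊥ →
      Wd (S : Subgroup G) ≤ U) : VX S :=
  fun _ _ h => ⟨top_X B hB irr h, top_K B hB irr h⟩

/-- **the top level is `(Q, V*)`** (319's `Top S`), from `SeedQ S`. -/
theorem top_two (ml : MLK.{u, u}) (ha : AbsP.{u, u}) (h : RBF S) (hB : Bks S N E ⊥ Om phi)
    (irr : ∀ U : Subgroup G, U ≤ Wd (S : Subgroup G) → MZ (S : Subgroup G) ≤ normalizer (U : Set G) → U ≠ ⊥ →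
      Wd (S : Subgroup G) ≤ U)
    (hj : jj (S : Subgroup G) ≤ centralizer (Wd (S : Subgroup G) : Set G)) (sd : SeedQ S) : RLev.Top S :=
  top_of ml ha h hj (vx_two (rb_of h) hB irr) sd

end Cfsg.Agent.Omega.NOThreeL.RRed.LevVX
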